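import Mathlib
import Cfsg.Agent.H489.AS.Cent
import Cfsg.Agent.H518.SUSpSix
import Cfsg.Agent.S2141
import Cfsg.Agent.S2142

/-!
# S3943, the counting data for `PSp_{2m}(q)` (helper490)
-/

set_option autoImplicit false

namespace Cfsg.Agent.H490.AS

open Module Cfsg.Agent.H518.DghpFix Cfsg.Agent.H518.DghpPrim Cfsg.Agent.H518.DghpMat Cfsg.Agent.H518.SU
  Cfsg.Agent.H489.AS

universe u v w

/-- The symplectic form, in any characteristic. -/
theorem frm_sp' {F : Type} [Field F] (m : ℕ) : Frm (spB m F) where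
  add x y z := by
    unfold spB
    rw [Matrix.mulVec_add, dotProduct_add]
  smul c x y := by
    unfold spB
    rw [Matrix.mulVec_smul, dotProduct_smul, smul_eq_mul]
  symm x y h := by
    have h1 : spB m F y x = - spB m F x y := by
      rw [spB_eq, spB_eq, ← Finset.sum_neg_distrib]
      refine Finset.sum_congr rfl fun i _ => ?_
      ring
    rw [h1, h, neg_zero]
  nondeg x h := by
    funext i
    rcases i with i | i
    · have h1 := h (Pi.single (Sum.inr i) 1)
      rw [spB_eq] at h1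
      simpa [Pi.single_apply] using h1
    · have h1 := h (Pi.single (Sum.inl i) 1)
      rw [spB_eq] at h1
      simpa [Pi.single_apply] using h1

/-- `K1` is trivial if the order of the field modulo `p` is the dimension. -/
theorem K1_irred {F : Type u} [Field F] [Fintype F] {V : Type v} [AddCommGroup V] [Module F V]
    [FiniteDimensional F V] {G : Type w} [Group G] (φ : G →* (V →ₗ[F] V)) (hφ : Function.Injective φ) {p : ℕ}
    (hp : p.Prime) (hpF : ¬ p ∣ Fintype.card F)
    (he : orderOf ((Fintype.card F : ℕ) : ZMod p) = finrank F V) {z : G}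
    (hz : orderOf z = p) : K1 φ z = ⊥ := by
  have hx : φ z ^ p ^ 1 = 1 := by rw [pow_one, ← map_pow, ← hz, pow_orderOf_eq_one, map_one]
  have hx1 : φ z ≠ 1 := by
    intro h
    have h1 : z = 1 := hφ (by rw [h, map_one])
    rw [h1, orderOf_one] at hz
    exact hp.one_lt.ne hz
  have hcx : finrank F (fixS (φ z)) < finrank F V := by
    refine lt_of_le_of_ne (Submodule.finrank_le _) fun h => hx1 ?_
    exact fixS_eq_top_iff.1 (Submodule.eq_top_of_finrank_eq h)
  have h1 := finrank_fix hp hpF hx ⊤ (fun _ _ => trivial)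
  rw [top_inf_eq, finrank_top, he] at h1
  have h2 := Nat.le_of_dvd (by omega) h1
  have h3 : fixS (φ z) = ⊥ := Submodule.finrank_eq_zero.1 (by omega)
  have hinj : Function.Injective (φ z - (1 : V →ₗ[F] V) : V →ₗ[F] V) := by
    rw [injective_iff_map_eq_zero]
    intro v hv
    have h4 : v ∈ fixS (φ z) := by
      rw [mem_fixS]
      exact sub_eq_zero.1 hv
    rw [h3, Submodule.mem_bot] at h4
    exact h4
  have hsurj : Function.Surjective (φ z - (1 : V →ₗ[F] V) : V →ₗ[F] V) := LinearMap.injective_iff_surjective.1 hinj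
  rw [Subgroup.eq_bot_iff_forall]
  intro g hg
  apply hφ
  rw [map_one]
  ext v
  obtain ⟨w, rfl⟩ := hsurj v
  exact (mem_K1.1 hg).2 w

/-- The counting data for the symplectic groups. -/
theorem cnt_psp {F : Type} [Field F] [Fintype F] {m q p₀ f g : ℕ} (hg : Cond q f g) (hp₀ : p₀.Prime) (hf : 1 ≤ f)
    (hq : q = p₀ ^ f) (hF : Fintype.card F = q) (hm : 2 ≤ m) (h22 : ¬ (q = 2 ∧ m = 2)) (h26 : ¬ (q = 2 ∧ m = 3))
    (h34 : ¬ (q = 3 ∧ m = 2)) : Cnt g (Cfsg.PSp m F) := by
  have hq1 : 1 < q := hF ▸ Fintype.one_lt_card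
  obtain ⟨p, a, ⟨hp, hp5, ha, hord, hdvd, hdvd', hpf⟩, hs⟩ := exists_pack_irred (e := 2 * m) hp₀ hf hq
    (by omega) (by omega) (by omega)
  have hpg : ¬ p ∣ g := hg p hp hp5 hpf (by omega)
  have hd : finrank F (Fin m ⊕ Fin m → F) = 2 * m := finrank_sum_fin
  have hpq : ¬ p ∣ q := not_dvd_of_orderOf hp hord (by omega)
  obtain ⟨y, hy, hel⟩ := exists_el_irred (matRep (spHom m F)) (matRep_injective (spHom_injective _ _)) hp
    (by omega) ha (by rwa [hF]) (by rw [hF, hord, hd]) (by rw [hd]; omega)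
    (by rw [hF, hd]; exact hs) (hdvd.trans (pow_sub_one_dvd_card_Sp hF (by omega) le_rfl))
  have hc : Nat.card (Subgroup.center (Matrix.symplecticGroup (Fin m) F)) = Nat.gcd 2 (q - 1) :=
    Cfsg.Agent.S0246.result hF m (by omega)
  have hcp : ¬ p ∣ Nat.card (Subgroup.center (Matrix.symplecticGroup (Fin m) F)) := by
    rw [hc]
    exact fun h => not_dvd_pred (by omega) hord (by omega) (h.trans (Nat.gcd_dvd_right _ _))
  have hG : ¬ p ^ (a + 1) ∣ Nat.card (Matrix.symplecticGroup (Fin m) F) := by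
    rw [Cfsg.Agent.S0245.result hF m]
    refine not_pow_dvd_mul_of_not_dvd hp (not_dvd_pow hp hpq) ?_
    refine not_pow_dvd_prod hp (Finset.range m) _ (m - 1) ?_ ?_ (Finset.mem_range.2 (by omega))
    · have : m - 1 + 1 = m := by omega
      rw [this]
      exact hdvd'
    · intro i hi hi'
      have := Finset.mem_range.1 hi
      exact not_dvd_of_lt (by omega) hord (by omega) (by omega)
  -- the element
  have hk : (QuotientGroup.mk' (Subgroup.center (Matrix.symplecticGroup (Fin m) F))).ker =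
      Subgroup.center (Matrix.symplecticGroup (Fin m) F) := QuotientGroup.ker_mk' _
  have hk' : ¬ p ∣ Nat.card (QuotientGroup.mk' (Subgroup.center (Matrix.symplecticGroup (Fin m) F))).ker := by
    rwa [hk]
  have hel' : ∃ y : Cfsg.PSp m F, orderOf y = p ^ a ∧ El p y := by
    refine ⟨QuotientGroup.mk' (Subgroup.center (Matrix.symplecticGroup (Fin m) F)) y, orderOf_map hp hy _ hk',
      hel.map hp _ (QuotientGroup.mk'_surjective _) ?_ hk'⟩
    rw [hk]
    exact Group.isSolvable_of_comm fun a b => Subtype.ext ((Subgroup.mem_center_iff.1 b.2) a)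
  have hG' : ¬ p ^ (a + 1) ∣ Nat.card (Cfsg.PSp m F) := by
    intro h
    apply hG
    rw [Subgroup.card_eq_card_quotient_mul_card_subgroup (Subgroup.center (Matrix.symplecticGroup (Fin m) F))]
    exact Dvd.dvd.mul_right h _
  -- the centralizers
  have hcent : ∀ u : Cfsg.PSp m F, orderOf u = p → Nat.card (Subgroup.centralizer ({u} : Set (Cfsg.PSp m F))) ≤
      q ^ m + 1 := by
    intro u hu
    have h1 := cent_quot (G := Matrix.symplecticGroup (Fin m) F) hp hcp (c := q ^ m + 1) (fun z hz => ?_) u hu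
    · rw [hc] at h1
      have h2 : 0 < Nat.gcd 2 (q - 1) := Nat.gcd_pos_of_pos_left _ (by norm_num)
      exact (Nat.le_mul_of_pos_right _ h2).trans h1
    · have h1 := cent_le (matRep (spHom m F)) (matRep_injective (spHom_injective _ _)) (frm_sp' (F := F) m)
        (fun x y z => by unfold spB; rw [add_dotProduct]) (RingHom.id F)
        (fun c x y => by unfold spB; rw [smul_dotProduct]; rfl) (spB_isom m) hp (by rwa [hF])
        (by rw [hF, hord, hd]; omega) hz (Q := q ^ m) (by rw [hF, hord, ← pow_mul, mul_comm 2 m])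
      rw [K1_irred (matRep (spHom m F)) (matRep_injective (spHom_injective _ _)) hp (by rwa [hF])
        (by rw [hF, hord, hd]) hz, Subgroup.card_bot, mul_one] at h1
      exact h1
  by_cases hq2 : q = 2
  · subst hq2
    refine ⟨p, a, 2 ^ (m - 1) * (2 ^ m - 1), hp, hp5, ha, hpg, hG', hel', (Cfsg.Agent.S2142.result hF m (by omega)).1,
      fun u hu => (Nat.mul_le_mul_left 2 (hcent u hu)).trans ?_⟩
    obtain ⟨k, rfl⟩ : ∃ k, m = k + 4 := ⟨m - 4, by omega⟩
    have h1 : k + 4 - 1 = k + 3 := by omega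
    have h2 : 1 ≤ 2 ^ k := Nat.one_le_pow _ _ (by omega)
    rw [h1]
    have h3 : 2 ^ (k + 4) - 1 ≥ 15 * 2 ^ k := by
      have : 2 ^ (k + 4) = 16 * 2 ^ k := by ring
      omega
    calc 2 * (2 ^ (k + 4) + 1) ≤ 34 * 2 ^ k := by
          have : 2 ^ (k + 4) = 16 * 2 ^ k := by ring
          omega
      _ ≤ 2 ^ (k + 3) * (15 * 2 ^ k) := by
          have : 2 ^ (k + 3) = 8 * 2 ^ k := by ring
          rw [this]
          nlinarith
      _ ≤ _ := Nat.mul_le_mul_left _ h3
  · refine ⟨p, a, (q ^ (2 * m) - 1) / (q - 1), hp, hp5, ha, hpg, hG', hel',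
      (Cfsg.Agent.S2141.result hF m hm (by omega) (by omega)).1,
      fun u hu => (Nat.mul_le_mul_left 2 (hcent u hu)).trans ?_⟩
    rw [Nat.le_div_iff_mul_le (by omega)]
    have h3 : q ^ (2 * m) - 1 = (q ^ m - 1) * (q ^ m + 1) := by
      have := Nat.sq_sub_sq (q ^ m) 1
      rw [one_pow, ← pow_mul, mul_comm m 2] at this
      rw [this, mul_comm]
    have h4 : 2 * (q - 1) ≤ q ^ m - 1 := by
      have h5 : q ^ 2 ≤ q ^ m := Nat.pow_le_pow_right (by omega) hm
      have h6 : 2 * (q - 1) + 1 ≤ q ^ 2 := by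
        obtain ⟨k, rfl⟩ : ∃ k, q = k + 1 := ⟨q - 1, by omega⟩
        rw [Nat.add_sub_cancel]
        nlinarith
      omega
    rw [h3]
    calc 2 * (q ^ m + 1) * (q - 1) = (2 * (q - 1)) * (q ^ m + 1) := by ring
      _ ≤ _ := Nat.mul_le_mul_right _ h4

end Cfsg.Agent.H490.AS
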