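import Mathlib
import Cfsg.Agent.H518.SUIso
import Cfsg.Agent.H518.SUIrr
import Cfsg.Agent.H479.AS.Crit

/-!
# S3943: elements `y` of composite order in isometry groups (helper490)

`z`, `t` powers of `y`; `z` of large prime order `p`, `t` of prime order `r` acting nontrivially on `C_V(z)`, where
`dim C_V(z) ≤ e_r + 1`. Then every solvable `M ∋ y` has a unique subgroup of order `p`.
-/

set_option autoImplicit false
set_option linter.unusedSectionVars false

namespace Cfsg.Agent.H490.AS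

open Module Cfsg.Agent.H518.DghpFix Cfsg.Agent.H518.SU

universe u v w w'

section Lin

variable {F : Type u} [Field F] [Fintype F] {V : Type v} [AddCommGroup V] [Module F V] [FiniteDimensional F V]
  {B : V → V → F}

/-- the form on `C_V(z)` -/
theorem frm_fix (hB : Frm B) {z : V →ₗ[F] V} {n : ℕ} (hn : (n : F) ≠ 0) (hz : z ^ n = 1)
    (hzB : ∀ u v, B (z u) (z v) = B u v) : Frm (fun x y : fixS z => B x y) :=
  ⟨fun x y w => hB.add _ _ _, fun c x y => hB.smul _ _ _, fun x y h => hB.symm _ _ h, fun x hx =>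
    Subtype.ext (eq_zero_of_fix hB hn hz hzB x.2 fun c hc => hx ⟨c, hc⟩)⟩

/-- a totally isotropic invariant subspace of `C_V(z)` is zero -/
theorem iso_eq_bot (hB : Frm B) {z t : V →ₗ[F] V} {p r : ℕ} (hp : p.Prime) (hpF : ¬ p ∣ Fintype.card F)
    (hr : r.Prime) (hrF : ¬ r ∣ Fintype.card F) (hz : z ^ p = 1) (ht : t ^ r = 1) (hzt : z * t = t * z)
    (hzB : ∀ u v, B (z u) (z v) = B u v) (htB : ∀ u v, B (t u) (t v) = B u v)
    (h2 : finrank F (fixS z) < 2 * orderOf ((Fintype.card F : ℕ) : ZMod r))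
    (h1 : finrank F (fixS z) ≤ orderOf ((Fintype.card F : ℕ) : ZMod r) + 1)
    (ht1 : ∃ v ∈ fixS z, t v ≠ v) {W : Submodule F V} (hWz : W ≤ fixS z) (hWt : ∀ v ∈ W, t v ∈ W)
    (hiso : ∀ u ∈ W, ∀ v ∈ W, B u v = 0) : W = ⊥ := by
  have hFC := frm_fix hB (cast_ne_zero_of_not_dvd hp hpF) hz hzB
  have hinv : ∀ v ∈ fixS z, t v ∈ fixS z := fixS_invariant hzt
  let tC : fixS z →ₗ[F] fixS z := t.restrict hinv
  have htC : ∀ x, ((tC x : fixS z) : V) = t x := fun _ => rfl
  have hpow : ∀ (k : ℕ) (x : fixS z), (((tC ^ k) x : fixS z) : V) = (t ^ k) x := by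
    intro k
    induction k with
    | zero => intro x; rfl
    | succ k ih =>
      intro x
      rw [pow_succ, pow_succ, Module.End.mul_apply, Module.End.mul_apply, ih]
      rfl
  have htr : tC ^ r = 1 := by
    ext x
    rw [hpow, ht]
    rfl
  have htr' : tC ^ r ^ 1 = 1 := by rw [pow_one, htr]
  have htC1 : tC ≠ 1 := by
    intro h
    obtain ⟨v, hv, hne⟩ := ht1
    apply hne
    have := congrArg (fun f : fixS z →ₗ[F] fixS z => ((f ⟨v, hv⟩ : fixS z) : V)) h
    exact this
  have hWC : ∀ v ∈ W.comap (fixS z).subtype, tC v ∈ W.comap (fixS z).subtype := fun v hv => hWt _ hv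
  have hle := isotropic_le_fix hFC hr hrF htr' htC1 (fun u v => htB u v) h2 hWC
    (fun u hu v hv => hiso _ hu _ hv)
  by_contra hW
  have hcx : finrank F (fixS tC) < finrank F (fixS z) := by
    refine lt_of_le_of_ne (Submodule.finrank_le _) fun h => htC1 ?_
    exact fixS_eq_top_iff.1 (Submodule.eq_top_of_finrank_eq h)
  have h3 := finrank_fix hr hrF htr' ⊤ (fun _ _ => trivial)
  rw [top_inf_eq, finrank_top] at h3
  have h4 := Nat.le_of_dvd (by omega) h3
  have h5 : finrank F (fixS tC) ≤ 1 := by omega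
  obtain ⟨w, hw, hw0⟩ := (Submodule.ne_bot_iff W).1 hW
  have hWne : W.comap (fixS z).subtype ≠ ⊥ := by
    intro h
    have h6 : (⟨w, hWz hw⟩ : fixS z) ∈ W.comap (fixS z).subtype := hw
    rw [h, Submodule.mem_bot] at h6
    exact hw0 (congrArg Subtype.val h6)
  have h6 : 0 < finrank F (W.comap (fixS z).subtype) := by
    rcases Nat.eq_zero_or_pos (finrank F (W.comap (fixS z).subtype)) with h | h
    · exact absurd (Submodule.finrank_eq_zero.1 h) hWne
    · exact h
  have h7 : W.comap (fixS z).subtype = fixS tC := Submodule.eq_of_le_of_finrank_le hle (by omega)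
  have hw' : (⟨w, hWz hw⟩ : fixS z) ∈ W.comap (fixS z).subtype := hw
  have h8 := eq_zero_of_fix hFC (cast_ne_zero_of_not_dvd hr hrF) htr (fun u v => htB u v) (hle hw')
    (fun c hc => hiso w hw c (by
      rw [← h7] at hc
      exact hc))
  exact hw0 (congrArg Subtype.val h8)

variable {G : Type w} [Group G] [Finite G]

/-- **Solvable subgroups containing `y`.** -/
theorem mem_zpowers_of (φ : G →* (V →ₗ[F] V)) (hφ : Function.Injective φ) (hB : Frm B)
    (hGB : ∀ g u v, B (φ g u) (φ g v) = B u v) {p r : ℕ} (hp : p.Prime) (hp2 : p ≠ 2) (hpF : ¬ p ∣ Fintype.card F)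
    (hr : r.Prime) (hrF : ¬ r ∣ Fintype.card F)
    (h2e : finrank F V < 2 * orderOf ((Fintype.card F : ℕ) : ZMod p))
    (hs : finrank F V + 1 < p) {y z t : G} (hz : orderOf z = p) (hzy : z ∈ Subgroup.zpowers y)
    (hty : t ∈ Subgroup.zpowers y) (ht : t ^ r = 1) (hzt : z * t = t * z)
    (h2 : finrank F (fixS (φ z)) < 2 * orderOf ((Fintype.card F : ℕ) : ZMod r))
    (h1 : finrank F (fixS (φ z)) ≤ orderOf ((Fintype.card F : ℕ) : ZMod r) + 1)
    (ht1 : ∃ v ∈ fixS (φ z), φ t v ≠ v) (M : Subgroup G) (hM : Group.IsSolvable M) (hyM : y ∈ M) :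
    ∀ u ∈ M, orderOf u = p → u ∈ Subgroup.zpowers z := by
  have hzM : z ∈ M := (Subgroup.zpowers_le.2 hyM) hzy
  have htM : t ∈ M := (Subgroup.zpowers_le.2 hyM) hty
  have hz1 : orderOf z = p ^ 1 := by rw [pow_one, hz]
  have hφz : φ z ^ p = 1 := by rw [← map_pow, ← hz, pow_orderOf_eq_one, map_one]
  have hφt : φ t ^ r = 1 := by rw [← map_pow, ht, map_one]
  -- no normal subgroups of characteristic power order
  have hcore : ∀ ℓ : ℕ, ℓ.Prime → ℓ ∣ Fintype.card F → ∀ P : Subgroup G,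
      (∀ g ∈ M, ∀ n ∈ P, g * n * g⁻¹ ∈ P) → IsPGroup ℓ P → P = ⊥ := by
    intro ℓ hℓ hℓF P hn hP
    refine (bot_or_isotropic φ hφ hB hGB hp hpF h2e le_rfl hz1 hzM hℓ hℓF hn hP).resolve_right ?_
    rintro ⟨W, hW, hWz, hiso, hinv, -⟩
    exact hW (iso_eq_bot hB hp hpF hr hrF hφz hφt (by rw [← map_mul, hzt, map_mul]) (hGB z) (hGB t) h2 h1 ht1 hWz
      (hinv t htM) hiso)
  intro u huM hu
  have hz' : orderOf (⟨z, hzM⟩ : M) = p ^ 1 := by rw [Subgroup.orderOf_mk, hz, pow_one]
  have key := solv_unique (G := M) hp le_rfl hz' (fun ℓ hℓ hℓp T hT hTt u hu => ?_) (fun u v hu hv huv => ?_)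
    ⟨u, huM⟩ (by rw [Subgroup.orderOf_mk, hu])
  · obtain ⟨k, hk⟩ := Subgroup.mem_zpowers_iff.1 key
    refine Subgroup.mem_zpowers_iff.2 ⟨k, ?_⟩
    exact congrArg Subtype.val hk
  · rw [Nat.sub_self, pow_zero, pow_one]
    have hTz : ∀ u ∈ T.map M.subtype, z * u * z⁻¹ ∈ T.map M.subtype := by
      rintro _ ⟨u, hu, rfl⟩
      exact ⟨⟨z, hzM⟩ * u * ⟨z, hzM⟩⁻¹, hT.conj_mem u hu _, rfl⟩
    by_cases hℓF : ℓ ∣ Fintype.card F
    · have h1 := hcore ℓ hℓ hℓF (T.map M.subtype) (by
        rintro g hg _ ⟨u, hu, rfl⟩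
        exact ⟨⟨g, hg⟩ * u * ⟨g, hg⟩⁻¹, hT.conj_mem u hu _, rfl⟩) (hTt.map _)
      have h2 : (u : G) ∈ T.map M.subtype := ⟨u, hu, rfl⟩
      rw [h1, Subgroup.mem_bot] at h2
      have h3 : u = 1 := Subtype.ext h2
      rw [h3, mul_one, one_mul]
    · have h1 := centralize_rep φ hφ hp hp2 le_rfl hℓ hℓp (cast_ne_zero_of_not_dvd hℓ hℓF) hz1 (hTt.map _) hTz
        (Or.inl (by rw [Nat.sub_self, pow_zero, pow_one]; exact hs)) u ⟨u, hu, rfl⟩
      rw [Nat.sub_self, pow_zero, pow_one] at h1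
      exact Subtype.ext h1
  · obtain h := commuting_of_rep φ hφ hp hpF h2e (u : G) (v : G) (by rw [Subgroup.orderOf_coe, hu])
      (by rw [Subgroup.orderOf_coe, hv]) (congrArg Subtype.val huv)
    obtain ⟨k, hk⟩ := Subgroup.mem_zpowers_iff.1 h
    exact Subgroup.mem_zpowers_iff.2 ⟨k, Subtype.ext hk⟩

end Lin

/-- Passing to a quotient by a normal solvable subgroup of order prime to `p`. -/
theorem mem_zpowers_map {G : Type u} {K : Type v} [Group G] [Group K] {p : ℕ} (hp : p.Prime) {y z : G}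
    (h : ∀ M : Subgroup G, Group.IsSolvable M → y ∈ M → ∀ u ∈ M, orderOf u = p → u ∈ Subgroup.zpowers z)
    (π : G →* K) (hπ : Function.Surjective π) (hsol : Group.IsSolvable π.ker) (hker : ¬ p ∣ Nat.card π.ker) :
    ∀ M : Subgroup K, Group.IsSolvable M → π y ∈ M → ∀ u ∈ M, orderOf u = p → u ∈ Subgroup.zpowers (π z) := by
  intro M hM hyM u huM hu
  obtain ⟨g, rfl⟩ := hπ u
  set n := Nat.card π.ker with hn
  have h1 : g ^ p ∈ π.ker := by
    rw [MonoidHom.mem_ker, map_pow, ← hu, pow_orderOf_eq_one]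
  have h2 : (g ^ n) ^ p = 1 := by
    rw [← pow_mul, mul_comm, pow_mul]
    have : (⟨g ^ p, h1⟩ : π.ker) ^ n = 1 := pow_card_eq_one'
    exact congrArg Subtype.val this
  have hcop : Nat.Coprime p n := (Nat.Prime.coprime_iff_not_dvd hp).2 hker
  have h3 : orderOf (π g ^ n) = p := by
    rw [Nat.Coprime.orderOf_pow (by rw [hu]; exact hcop), hu]
  have h4 : g ^ n ≠ 1 := by
    intro h
    rw [← map_pow, h, map_one, orderOf_one] at h3
    exact hp.one_lt.ne h3
  have : Fact p.Prime := ⟨hp⟩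
  have h5 : orderOf (g ^ n) = p := orderOf_eq_prime h2 h4
  have hsolM : Group.IsSolvable (M.comap π) := by
    let f : M.comap π →* M := (π.comp (M.comap π).subtype).codRestrict M (fun x => x.2)
    have hf : f.ker ≤ ((π.ker).subgroupOf (M.comap π)) := by
      intro x hx
      rw [MonoidHom.mem_ker] at hx
      rw [Subgroup.mem_subgroupOf, MonoidHom.mem_ker]
      exact congrArg Subtype.val hx
    have hk : Group.IsSolvable f.ker := by
      exact Group.isSolvable_of_isSolvable_injective (f := (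
        { toFun := fun x => ⟨x.1.1, by
            have := hf x.2
            rwa [Subgroup.mem_subgroupOf] at this⟩
          map_one' := rfl
          map_mul' := fun _ _ => rfl } : f.ker →* π.ker)) (fun a b hab => by
            apply Subtype.ext
            apply Subtype.ext
            exact congrArg (Subtype.val : π.ker → G) hab)
    exact Group.isSolvable_of_ker_le_range (f.ker.subtype) f (by rw [Subgroup.range_subtype])
  have h6 := h (M.comap π) hsolM hyM (g ^ n) (by
    show π (g ^ n) ∈ M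
    rw [map_pow]
    exact M.pow_mem huM n) h5
  obtain ⟨k, hk⟩ := Subgroup.mem_zpowers_iff.1 h6
  have h7 : π g ^ n ∈ Subgroup.zpowers (π z) := by
    refine Subgroup.mem_zpowers_iff.2 ⟨k, ?_⟩
    rw [← map_zpow, hk, map_pow]
  have hgf : π g ∈ Subgroup.zpowers (π g ^ n) := by
    rw [mem_zpowers_pow_iff, hu]
    exact hcop.symm
  exact (Subgroup.zpowers_le.2 h7) hgf

/-- The form needed for the criteria. -/
theorem sug_of {K : Type u} [Group K] {p : ℕ} (hp : p.Prime) {y z : K} (hz : orderOf z = p)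
    (h : ∀ M : Subgroup K, Group.IsSolvable M → y ∈ M → ∀ u ∈ M, orderOf u = p → u ∈ Subgroup.zpowers z) :
    H479.AS.SUg p y := by
  intro M hM hyM A B hA hB hA' hB'
  have hpf : Fact p.Prime := ⟨hp⟩
  have key : ∀ C : Subgroup K, C ≤ M → Nat.card C = p → C = Subgroup.zpowers z := by
    intro C hC hC'
    have hfin : Finite C := Nat.finite_of_card_ne_zero (by rw [hC']; exact hp.ne_zero)
    obtain ⟨c, hc⟩ := exists_prime_orderOf_dvd_card' (G := C) p (by rw [hC'])
    have hc' : orderOf (c : K) = p := by rw [Subgroup.orderOf_coe, hc]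
    have h1 := h M hM hyM c (hC c.2) hc'
    rw [← zpowers_eq hp hc' hz h1]
    symm
    apply SetLike.coe_injective
    have hle : Subgroup.zpowers (c : K) ≤ C := by
      rw [Subgroup.zpowers_le]
      exact c.2
    refine Set.eq_of_subset_of_ncard_le hle ?_ (Set.toFinite _)
    rw [← Nat.card_coe_set_eq, ← Nat.card_coe_set_eq]
    have h2 := Nat.card_zpowers (c : K)
    rw [hc'] at h2
    exact (hC'.trans h2.symm).le
  rw [key A hA hA', key B hB hB']

end Cfsg.Agent.H490.AS
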