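import Mathlib
import Cfsg.Agent.H490.AS.Comp
import Cfsg.Agent.H490.AS.KThree
import Cfsg.Agent.H518.SUSeven

/-!
# S3943: an element of order 3 acting on a nondegenerate three-dimensional quadratic space (helper490)
-/

set_option autoImplicit false
set_option linter.unusedSectionVars false
set_option linter.unusedVariables false

namespace Cfsg.Agent.H490.AS

open Module Cfsg.Agent.H518.DghpFix Cfsg.Agent.H518.SU Cfsg.Agent.H489.AS Cfsg.Agent.H500.AS QuadraticMap
open Cfsg.Agent.LieClassical.OrthCore Cfsg.Agent.LieClassical.OrthTrans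
  Cfsg.Agent.LieClassical.OrthSimple

universe u v w

section

variable {F : Type u} [Field F] [Fintype F]

theorem exists_two_sq (h2 : (2 : F) ≠ 0) {a b : F} (ha : a ≠ 0) (hb : b ≠ 0) (d : F) :
    ∃ x y : F, x ^ 2 * a + y ^ 2 * b = d := by
  have hodd : Fintype.card F % 2 = 1 := by
    refine FiniteField.odd_card_of_char_ne_two fun h => h2 ?_
    have := ringChar.Nat.cast_ringChar (R := F)
    rw [h] at this
    exact_mod_cast this
  obtain ⟨x, y, h⟩ := FiniteField.exists_root_sum_quadratic (R := F) (f := Polynomial.C a * Polynomial.X ^ 2)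
    (g := Polynomial.C b * Polynomial.X ^ 2 - Polynomial.C d) (Polynomial.degree_C_mul_X_pow 2 ha) (by
      rw [Polynomial.degree_sub_eq_left_of_degree_lt]
      · exact Polynomial.degree_C_mul_X_pow 2 hb
      · rw [Polynomial.degree_C_mul_X_pow 2 hb]
        exact lt_of_le_of_lt Polynomial.degree_C_le (by norm_num)) hodd
  refine ⟨x, y, ?_⟩
  simp only [Polynomial.eval_mul, Polynomial.eval_C, Polynomial.eval_pow, Polynomial.eval_X,
    Polynomial.eval_sub] at h
  linear_combination h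

variable {V : Type v} [AddCommGroup V] [Module F V] [FiniteDimensional F V] {Q : QuadraticForm F V}

/-- **Element of order 3.** -/
theorem exists_three (h2 : (2 : F) ≠ 0) (h3 : (3 : F) ≠ 0) {C : Submodule F V} (hC : finrank F C = 3)
    (hnd : ∀ v ∈ C, (∀ w ∈ C, polar (⇑Q) v w = 0) → v = 0) {z : V ≃ₗ[F] V} (hz : z ∈ O Q) (hzC : ∀ v ∈ C, z v = v) :
    ∃ t : V ≃ₗ[F] V, t ∈ O Q ∧ t ^ 3 = 1 ∧ z * t = t * z ∧ ∃ v ∈ C, t v ≠ v := by
  obtain ⟨e, heC, heQ, heo, hrep⟩ := exists_orth h2 Q hC hnd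
  obtain ⟨x, y, hxy⟩ := exists_two_sq h2 (heQ 1) (heQ 2) (3 * Q (e 0))
  set n : V := x • e 1 + y • e 2 with hn
  have hnC : n ∈ C := C.add_mem (C.smul_mem _ (heC 1)) (C.smul_mem _ (heC 2))
  have hQn : Q n = 3 * Q (e 0) := by
    have h5 := map_orth heo 0 x y
    rw [zero_smul, zero_add] at h5
    rw [h5, ← hxy]
    ring
  have h0n : polar (⇑Q) (e 0) n = 0 := by
    rw [hn, polar_add_right, polar_smul_right, polar_smul_right, heo 0 1 (by decide), heo 0 2 (by decide)]
    simp
  have h00 : polar (⇑Q) (e 0) (e 0) = 2 * Q (e 0) := by rw [polar_self, two_smul, two_mul]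
  set u := e 0 with hu
  set w := e 0 + n with hw
  have hQu : Q u ≠ 0 := heQ 0
  have hQw : Q w = 4 * Q u := by
    rw [hw, QuadraticMap.map_add Q, hQn, h0n]
    ring
  have hQw0 : Q w ≠ 0 := by
    rw [hQw]
    have h4 : (4 : F) = 2 * 2 := by norm_num
    rw [h4]
    exact mul_ne_zero (mul_ne_zero h2 h2) hQu
  have huw : polar (⇑Q) u w = 2 * Q u := by
    rw [hw, polar_add_right, h00, h0n, add_zero]
  have hwu : polar (⇑Q) w u = 2 * Q u := by rw [polar_comm, huw]
  have huC : u ∈ C := heC 0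
  have hwC : w ∈ C := C.add_mem (heC 0) hnC
  -- the reflections
  set ru := refl Q u hQu with hru
  set rw' := refl Q w hQw0 with hrw
  have e1 : ru w = w - (2 : F) • u := by
    rw [hru, refl_apply, huw]
    congr 2
    field_simp
  have e2 : rw' u = u - (2⁻¹ : F) • w := by
    rw [hrw, refl_apply, hwu, hQw]
    congr 2
    have h4 : (4 : F) = 2 * 2 := by norm_num
    rw [h4]
    field_simp
  have e3 : rw' u = (-(2⁻¹) : F) • ru w := by
    rw [e1, e2, smul_sub, smul_smul, neg_mul, inv_mul_cancel₀ h2, neg_smul, neg_smul, one_smul]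
    abel
  have hru2 : ru * ru = 1 := refl_mul_self hQu
  have hrw2 : rw' * rw' = 1 := refl_mul_self hQw0
  have hrui : ru⁻¹ = ru := refl_inv hQu
  have hrwi : rw'⁻¹ = rw' := refl_inv hQw0
  have hruO : ru ∈ O Q := refl_mem_O hQu
  have hrwO : rw' ∈ O Q := refl_mem_O hQw0
  have hQ1 : Q (ru w) ≠ 0 := by
    have : Q (ru w) = Q w := hruO w
    rw [this]
    exact hQw0
  have hQ2 : Q (rw' u) ≠ 0 := by
    have : Q (rw' u) = Q u := hrwO u
    rw [this]
    exact hQu
  have c1 : ru * rw' * ru⁻¹ = refl Q (ru w) hQ1 := refl_conj hruO hQw0 hQ1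
  have c2 : rw' * ru * rw'⁻¹ = refl Q (rw' u) hQ2 := refl_conj hrwO hQu hQ2
  have c3 : refl Q (rw' u) hQ2 = refl Q (ru w) hQ1 := by
    have hne : (-(2⁻¹) : F) ≠ 0 := neg_ne_zero.2 (inv_ne_zero h2)
    have hQ3 : Q ((-(2⁻¹) : F) • ru w) ≠ 0 := by
      rw [← e3]
      exact hQ2
    have h5 := refl_smul hQ1 hne hQ3
    rw [← h5]
    congr 1
  have braid : ru * rw' * ru = rw' * ru * rw' := by
    rw [hrui] at c1
    rw [hrwi] at c2
    rw [c1, c2, c3]
  have hzz : ∀ v ∈ C, ∀ hv : Q v ≠ 0, z * refl Q v hv * z⁻¹ = refl Q v hv := by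
    intro v hvC hv
    have h5 : Q (z v) ≠ 0 := by
      rw [hzC v hvC]
      exact hv
    rw [refl_conj hz hv h5]
    congr 1
    exact hzC v hvC
  have hzu : z * ru = ru * z := mul_inv_eq_iff_eq_mul.1 (hzz u huC hQu)
  have hzw : z * rw' = rw' * z := mul_inv_eq_iff_eq_mul.1 (hzz w hwC hQw0)
  refine ⟨ru * rw', (O Q).mul_mem hruO hrwO, ?_, ?_, w, hwC, ?_⟩
  · have h5 : (ru * rw') ^ 3 = (ru * rw' * ru) * (rw' * ru * rw') := by
      rw [pow_three]
      simp only [mul_assoc]
    rw [h5, ← braid]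
    calc ru * rw' * ru * (ru * rw' * ru) = ru * rw' * (ru * ru) * rw' * ru := by group
      _ = ru * (rw' * rw') * ru := by rw [hru2]; group
      _ = 1 := by rw [hrw2, mul_one, hru2]
  · rw [← mul_assoc, hzu, mul_assoc, hzw, mul_assoc]
  · have h5 : rw' w = -w := by
      rw [hrw, refl_apply, polar_self]
      have h6 : (Q w)⁻¹ * (2 • Q w) = 2 := by
        rw [two_smul, ← two_mul]
        field_simp
      rw [h6, two_smul]
      abel
    have h6 : (ru * rw') w = ru (rw' w) := rfl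
    rw [h6, h5, map_neg, e1]
    intro h7
    have h8 : (2 : F) • n = 0 := by
      have h9 : (2 : F) • n = w - -(w - (2 : F) • u) := by
        rw [hw, two_smul, two_smul]
        abel
      rw [h9, h7, sub_self]
    have h9 : n = 0 := (smul_eq_zero.1 h8).resolve_left h2
    rw [h9, QuadraticMap.map_zero] at hQn
    exact mul_ne_zero h3 hQu hQn.symm

end

end Cfsg.Agent.H490.AS
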