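import Mathlib
import Cfsg.Agent.H490.AS.OmElt
import Cfsg.Agent.H518.SUSevenFin
import Cfsg.Agent.H479.AS.CritLt
import Cfsg.Agent.H489.AS.Cent
import Cfsg.Agent.S2143

/-!
# S3943: `PΩ_7(5)` (helper490)

`y` of order 39, `p = 13`: `|C_K(z)| ≤ 26 * 800` and `2 * 26 * 800 < 13 * 3906`.
-/

set_option autoImplicit false
set_option linter.unusedSectionVars false
set_option linter.unusedVariables false

namespace Cfsg.Agent.H490.AS

open Module Cfsg.Agent.H518.DghpFix Cfsg.Agent.H518.DghpPrim Cfsg.Agent.H518.SU Cfsg.Agent.H489.AS QuadraticMap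
open Cfsg.Agent.LieClassical.OrthCore Cfsg.Agent.LieClassical.OrthTrans
  Cfsg.Agent.LieClassical.OrthSimple Cfsg.Agent.ClassicalGeometry.OrthAut1 Cfsg.Agent.ClassicalGeometry.OrthSemi
  Cfsg.Agent.AutOrth.Main Cfsg.Agent.H965.AS
open Cfsg.Agent.H479.AS (GRow SUg of_lt_g)

universe u v w

theorem idx_congr {G : Type u} {K : Type v} [Group G] [Group K] (e : G ≃* K) {b : ℕ}
    (h : ∀ H : Subgroup G, H ≠ ⊤ → b ≤ H.index) (H : Subgroup K) (hH : H ≠ ⊤) : b ≤ H.index := by
  have hs : Function.Surjective e.toMonoidHom := e.surjective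
  have h1 := h (H.comap e.toMonoidHom) (fun h0 => hH (by
    have h2 := Subgroup.map_comap_eq_self_of_surjective hs H
    rw [h0, ← MonoidHom.range_eq_map, MonoidHom.range_eq_top.2 hs] at h2
    exact h2.symm))
  rwa [Subgroup.index_comap_of_surjective _ hs] at h1

theorem not_comm_of {G : Type u} [Group G] [Finite G] [IsSimpleGroup G] {p b : ℕ} (hp : p.Prime)
    (hd : p ∣ Nat.card G) (hpb : p < b) (h : ∀ H : Subgroup G, H ≠ ⊤ → b ≤ H.index) : ¬ IsMulCommutative G := by
  intro hcomm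
  have : Fact (Nat.Prime p) := ⟨hp⟩
  obtain ⟨x, hx⟩ := exists_prime_orderOf_dvd_card' (G := G) p hd
  have hn : (Subgroup.zpowers x).Normal := ⟨fun n hn g => by
    rw [hcomm.is_comm.comm g n, mul_inv_cancel_right]
    exact hn⟩
  have h1 : Nat.card (Subgroup.zpowers x) = p := by rw [Nat.card_zpowers, hx]
  have hp1 := hp.one_lt
  rcases hn.eq_bot_or_eq_top with h0 | h0
  · rw [h0, Subgroup.card_bot] at h1
    omega
  · rw [h0, Subgroup.card_top] at h1
    have h2 := h ⊥ (by
      intro h3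
      rw [← Subgroup.card_top (G := G), ← h3, Subgroup.card_bot] at h1
      omega)
    rw [Subgroup.index_bot, h1] at h2
    omega

theorem center_eq_bot {G : Type u} [Group G] [IsSimpleGroup G] (hna : ¬ IsMulCommutative G) :
    Subgroup.center G = ⊥ := by
  rcases (inferInstance : (Subgroup.center G).Normal).eq_bot_or_eq_top with h | h
  · exact h
  · exact absurd ⟨⟨fun a b => by
      have : b ∈ Subgroup.center G := by rw [h]; trivial
      exact (Subgroup.mem_center_iff.1 this a)⟩⟩ hna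

section

variable {F : Type u} [Field F] [Fintype F] {V : Type v} [AddCommGroup V] [Module F V] [FiniteDimensional F V]
  {Q : QuadraticForm F V}

theorem ord_five_thirteen : orderOf ((5 : ℕ) : ZMod 13) = 4 :=
  orderOf_eq_of (by norm_num) (by norm_num) (by norm_num) fun i h1 h2 => by
    interval_cases i <;> norm_num

theorem ord_five_three : orderOf ((5 : ℕ) : ZMod 3) = 2 :=
  orderOf_eq_of (by norm_num) (by norm_num) (by norm_num) fun i h1 h2 => by
    interval_cases i <;> norm_num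

/-- the elements of `E Q` -/
theorem exists_yz (hG : Good Q) (hF : Fintype.card F = 5) (hV : finrank F V = 7) {z : E Q} (hz : orderOf z = 13) :
    ∃ y : E Q, z ∈ Subgroup.zpowers y ∧
      ∀ M : Subgroup (E Q), Group.IsSolvable M → y ∈ M → ∀ u ∈ M, orderOf u = 13 → u ∈ Subgroup.zpowers z := by
  have hfinV : Finite V := Module.finite_of_finite F
  have hfinE : Finite (V ≃ₗ[F] V) := Finite.of_injective (fun g : V ≃ₗ[F] V => (g : V → V)) DFunLike.coe_injective
  have hp13 : Nat.Prime 13 := by norm_num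
  have h2F : (2 : F) ≠ 0 := cast_ne_zero_of_not_dvd Nat.prime_two (by rw [hF]; norm_num)
  have h3F : (3 : F) ≠ 0 := cast_ne_zero_of_not_dvd Nat.prime_three (by rw [hF]; norm_num)
  have h13F : ((13 : ℕ) : F) ≠ 0 := cast_ne_zero_of_not_dvd hp13 (by rw [hF]; norm_num)
  have hpF : ¬ 13 ∣ Fintype.card F := by rw [hF]; norm_num
  have h3F' : ¬ 3 ∣ Fintype.card F := by rw [hF]; norm_num
  have hord : orderOf ((Fintype.card F : ℕ) : ZMod 13) = 4 := by rw [hF]; exact ord_five_thirteen
  have hord3 : orderOf ((Fintype.card F : ℕ) : ZMod 3) = 2 := by rw [hF]; exact ord_five_three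
  have hpol : ∀ (g : E Q) u v, polar Q (eHom Q g u) (eHom Q g v) = polar Q u v := fun g u v =>
    polar_map (E_le_O g.2) u v
  have hB := frm_polar_of hG.nondeg
  have hφz : eHom Q z ^ 13 = 1 := by rw [← map_pow, ← hz, pow_orderOf_eq_one, map_one]
  have hφz1 : eHom Q z ≠ 1 := by
    intro h
    have h1 : z = 1 := eHom_injective (by rw [h, map_one])
    rw [h1, orderOf_one] at hz
    exact hp13.one_lt.ne hz
  have h2e : finrank F V < 2 * orderOf ((Fintype.card F : ℕ) : ZMod 13) := by rw [hV, hord]; norm_num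
  obtain ⟨hr1, -, -⟩ := range_facts hp13 hpF hφz hφz1 h2e
  have hfix : finrank F (fixS (eHom Q z)) = 3 := by
    have hk : LinearMap.ker (eHom Q z - 1) = fixS (eHom Q z) := by
      ext v
      rw [LinearMap.mem_ker, LinearMap.sub_apply, sub_eq_zero]
      exact Iff.rfl
    have h1 := LinearMap.finrank_range_add_finrank_ker (eHom Q z - 1)
    rw [hk, hr1, hord, hV] at h1
    omega
  have hnd : ∀ v ∈ fixS (eHom Q z), (∀ w ∈ fixS (eHom Q z), polar (⇑Q) v w = 0) → v = 0 := fun v hv hw =>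
    eq_zero_of_fix hB h13F hφz (hpol z) hv hw
  obtain ⟨t, htO, ht3, hzt, ht1⟩ := exists_three (Q := Q) h2F h3F hfix hnd (z := z) (E_le_O z.2) (fun v hv => hv)
  have htE : t ∈ E Q := odd_mem_E hG htO (by decide) ht3
  set t' : E Q := ⟨t, htE⟩ with ht'
  have ht'3 : t' ^ 3 = 1 := Subtype.ext ht3
  have hcomm : z * t' = t' * z := Subtype.ext hzt
  have hc : Commute z t' := hcomm
  have hz13 : z ^ 13 = 1 := by rw [← hz, pow_orderOf_eq_one]
  have hzy : z ∈ Subgroup.zpowers (z * t') := by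
    refine Subgroup.mem_zpowers_iff.2 ⟨27, ?_⟩
    have h1 : (z * t') ^ (27 : ℤ) = (z * t') ^ 27 := zpow_natCast (z * t') 27
    rw [h1, hc.mul_pow]
    have h2 : z ^ 27 = z := by
      have : (27 : ℕ) = 13 * 2 + 1 := by norm_num
      rw [this, pow_succ, pow_mul, hz13, one_pow, one_mul]
    have h3 : t' ^ 27 = 1 := by
      have : (27 : ℕ) = 3 * 9 := by norm_num
      rw [this, pow_mul, ht'3, one_pow]
    rw [h2, h3, mul_one]
  have hty : t' ∈ Subgroup.zpowers (z * t') := by
    refine Subgroup.mem_zpowers_iff.2 ⟨13, ?_⟩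
    have h1 : (z * t') ^ (13 : ℤ) = (z * t') ^ 13 := zpow_natCast (z * t') 13
    rw [h1, hc.mul_pow, hz13, one_mul]
    have : (13 : ℕ) = 3 * 4 + 1 := by norm_num
    rw [this, pow_succ, pow_mul, ht'3, one_pow, one_mul]
  refine ⟨z * t', hzy, fun M hM hyM => ?_⟩
  refine mem_zpowers_of (eHom Q) eHom_injective hB hpol hp13 (by norm_num) hpF Nat.prime_three h3F' h2e
    (by rw [hV]; norm_num) hz hzy hty ht'3 hcomm ?_ ?_ ?_ M hM hyM
  · rw [hfix, hord3]
    norm_num
  · rw [hfix, hord3]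
  · obtain ⟨v, hv, hne⟩ := ht1
    exact ⟨v, hv, hne⟩

/-- the centraliser of an element of order 13 -/
theorem card_cent (hG : Good Q) (hF : Fintype.card F = 5) (hV : finrank F V = 7) {z : E Q} (hz : orderOf z = 13) :
    Nat.card (Subgroup.centralizer ({z} : Set (E Q))) ≤ 26 * 800 := by
  have hfinV : Finite V := Module.finite_of_finite F
  have hfinE : Finite (V ≃ₗ[F] V) := Finite.of_injective (fun g : V ≃ₗ[F] V => (g : V → V)) DFunLike.coe_injective
  have hp13 : Nat.Prime 13 := by norm_num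
  have h2F : (2 : F) ≠ 0 := cast_ne_zero_of_not_dvd Nat.prime_two (by rw [hF]; norm_num)
  have h13F : ((13 : ℕ) : F) ≠ 0 := cast_ne_zero_of_not_dvd hp13 (by rw [hF]; norm_num)
  have hpF : ¬ 13 ∣ Fintype.card F := by rw [hF]; norm_num
  have hord : orderOf ((Fintype.card F : ℕ) : ZMod 13) = 4 := by rw [hF]; exact ord_five_thirteen
  have hpol : ∀ (g : E Q) u v, polar Q (eHom Q g u) (eHom Q g v) = polar Q u v := fun g u v =>
    polar_map (E_le_O g.2) u v
  have hB := frm_polar_of hG.nondeg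
  have hφz : eHom Q z ^ 13 = 1 := by rw [← map_pow, ← hz, pow_orderOf_eq_one, map_one]
  have hφz1 : eHom Q z ≠ 1 := by
    intro h
    have h1 : z = 1 := eHom_injective (by rw [h, map_one])
    rw [h1, orderOf_one] at hz
    exact hp13.one_lt.ne hz
  have h2e : finrank F V < 2 * orderOf ((Fintype.card F : ℕ) : ZMod 13) := by rw [hV, hord]; norm_num
  obtain ⟨hr1, -, -⟩ := range_facts hp13 hpF hφz hφz1 h2e
  have hfix : finrank F (fixS (eHom Q z)) = 3 := by
    have hk : LinearMap.ker (eHom Q z - 1) = fixS (eHom Q z) := by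
      ext v
      rw [LinearMap.mem_ker, LinearMap.sub_apply, sub_eq_zero]
      exact Iff.rfl
    have h1 := LinearMap.finrank_range_add_finrank_ker (eHom Q z - 1)
    rw [hk, hr1, hord, hV] at h1
    omega
  have hnd : ∀ v ∈ fixS (eHom Q z), (∀ w ∈ fixS (eHom Q z), polar (⇑Q) v w = 0) → v = 0 := fun v hv hw =>
    eq_zero_of_fix hB h13F hφz (hpol z) hv hw
  have h1 := cent_le (eHom Q) eHom_injective (B := fun u v => polar Q u v) hB
    (fun x y z => polar_add_left Q x y z) (RingHom.id F) (fun c x y => by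
      rw [polar_smul_left]
      rfl) hpol hp13 hpF h2e hz (Q := 25) (by rw [hord, hF]; norm_num)
  have h2 := card_K1_three (φ := eHom Q) eHom_injective h13F (z := z) (by rw [← hz, pow_orderOf_eq_one]) hfix h2F Q
    (fun g v => E_le_O g.2 v) hnd
  rw [hF] at h2
  exact h1.trans (Nat.mul_le_mul_left _ (h2.trans (by norm_num)))

theorem as2_P (hG : Good Q) (hF : Fintype.card F = 5) (hV : finrank F V = 7) (h13 : 13 ∣ Nat.card (E Q))
    (hnsq : ¬ 13 ^ 2 ∣ Nat.card (P Q)) (hout : ¬ 13 ∣ Nat.card (Cfsg.Out (P Q)))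
    (hcE : ¬ 13 ∣ Nat.card (Subgroup.center (E Q))) (hb : ∀ H : Subgroup (P Q), H ≠ ⊤ → 3906 ≤ H.index)
    (hna : ¬ IsMulCommutative (P Q)) : AS2 (P Q) := by
  have hfinV : Finite V := Module.finite_of_finite F
  have hfinE : Finite (V ≃ₗ[F] V) := Finite.of_injective (fun g : V ≃ₗ[F] V => (g : V → V)) DFunLike.coe_injective
  have hsimp : IsSimpleGroup (P Q) := good_isSimpleGroup hG
  have hp13 : Nat.Prime 13 := by norm_num
  have : Fact (Nat.Prime 13) := ⟨hp13⟩
  obtain ⟨z, hz⟩ := exists_prime_orderOf_dvd_card' (G := E Q) 13 h13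
  obtain ⟨y, hzy, hy⟩ := exists_yz hG hF hV hz
  have hker : (QuotientGroup.mk' (Subgroup.center (E Q))).ker = Subgroup.center (E Q) := QuotientGroup.ker_mk' _
  set π := QuotientGroup.mk' (Subgroup.center (E Q)) with hπ
  have hsol : Group.IsSolvable π.ker := by
    rw [hker]
    exact Group.isSolvable_of_comm fun a b => Subtype.ext ((Subgroup.mem_center_iff.1 b.2) a)
  have hkr : ¬ 13 ∣ Nat.card π.ker := by rwa [hker]
  have hπz : orderOf (π z) = 13 := by
    have := orderOf_map (a := 1) hp13 (by rw [pow_one, hz]) π hkr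
    rwa [pow_one] at this
  have hsu := sug_of hp13 hπz (mem_zpowers_map hp13 hy π (QuotientGroup.mk'_surjective _) hsol hkr)
  have hr : GRow (P Q) 13 (π y) (π z) :=
    { hp := hp13
      h5 := by norm_num
      ord := hπz
      mem := by
        obtain ⟨k, hk⟩ := Subgroup.mem_zpowers_iff.1 hzy
        exact Subgroup.mem_zpowers_iff.2 ⟨k, by rw [← map_zpow, hk]⟩
      su := hsu
      full := hnsq
      out := hout }
  have hc := cent_quot (G := E Q) hp13 hcE (c := 26 * 800) (fun z hz => card_cent hG hF hV hz) (π z) hπz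
  have hc' : Nat.card (Subgroup.centralizer ({π z} : Set (P Q))) ≤ 26 * 800 :=
    (Nat.le_mul_of_pos_right _ Nat.card_pos).trans hc
  exact of_lt_g hna hr hc' hb (by norm_num)

end

open Cfsg.Agent.LieClassical in
/-- **`AS2` for `PΩ_7(5)`.** -/
theorem as2_odd_seven_five {F : Type} [Field F] [Fintype F] (hF : Fintype.card F = 5) :
    AS2 (Cfsg.POmega F (Cfsg.quadFormOdd 3 F)) := by
  have hp13 : Nat.Prime 13 := by norm_num
  have hcard := Cfsg.Agent.S0292.result hF (by decide) 3 le_rfl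
  have hidx := (Cfsg.Agent.S2143.result hF (by decide) le_rfl 3 le_rfl).1
  have hnsq : ¬ 13 ^ 2 ∣ 5 ^ (3 ^ 2) * ∏ i ∈ Finset.range 3, (5 ^ (2 * (i + 1)) - 1) := by
    simp only [Finset.prod_range_succ, Finset.prod_range_zero]
    norm_num
  have hdiv : 13 ∣ 5 ^ (3 ^ 2) * ∏ i ∈ Finset.range 3, (5 ^ (2 * (i + 1)) - 1) := by
    simp only [Finset.prod_range_succ, Finset.prod_range_zero]
    norm_num
  rw [← hcard] at hnsq hdiv
  have h2F : (2 : F) ≠ 0 := cast_ne_zero_of_not_dvd Nat.prime_two (by rw [hF]; norm_num)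
  have hidx' : ∀ H : Subgroup (Cfsg.POmega F (Cfsg.quadFormOdd 3 F)), H ≠ ⊤ → 3906 ≤ H.index := by
    intro H hH
    have := hidx H hH
    norm_num at this
    exact this
  rw [← OrthForms.coe_oddForm] at hcard hnsq hdiv hidx' ⊢
  have hG : Good (OrthForms.oddForm 3 F) := by
    rw [oddForm_eq]
    exact good_odd (by norm_num) h2F
  have hfin : Finite (Cfsg.POmega F ⇑(OrthForms.oddForm 3 F)) := inferInstance
  have hK : ¬ 13 ^ 2 ∣ Nat.card (Cfsg.POmega F ⇑(OrthForms.oddForm 3 F)) :=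
    fun h => hnsq (Dvd.dvd.mul_left h 2)
  have hK1 : 13 ∣ Nat.card (Cfsg.POmega F ⇑(OrthForms.oddForm 3 F)) :=
    ((Nat.Prime.dvd_mul hp13).1 hdiv).resolve_left (by norm_num)
  have hc : ¬ 13 ∣ Nat.card (Subgroup.center (Cfsg.Omega F ⇑(OrthForms.oddForm 3 F))) := by
    have hc0 := not_dvd_center_omega (F := F) (OmegaReindex.quadOdd_nondegenerate (m := 3) h2F)
      (by simp) (OmegaReindex.quadOdd_isotropic (F := F) (by norm_num)) hp13 (by norm_num)
    rw [OmegaReindex.coe_quadOdd] at hc0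
    rwa [OrthForms.coe_oddForm]
  have hcE : ¬ 13 ∣ Nat.card (Subgroup.center (E (OrthForms.oddForm 3 F))) := by
    rwa [← Nat.card_congr (Subgroup.centerCongr (oe hG)).toEquiv]
  have hcardO : Nat.card (Cfsg.Omega F ⇑(OrthForms.oddForm 3 F)) =
      Nat.card (Cfsg.POmega F ⇑(OrthForms.oddForm 3 F)) *
        Nat.card (Subgroup.center (Cfsg.Omega F ⇑(OrthForms.oddForm 3 F))) :=
    Subgroup.card_eq_card_quotient_mul_card_subgroup _
  have hE13 : 13 ∣ Nat.card (E (OrthForms.oddForm 3 F)) := by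
    rw [← Nat.card_congr (oe hG).toEquiv, hcardO]
    exact Dvd.dvd.mul_right hK1 _
  have e := pe hG
  have hfinP : Finite (P (OrthForms.oddForm 3 F)) := Finite.of_equiv _ e.toEquiv
  have hsimp : IsSimpleGroup (P (OrthForms.oddForm 3 F)) := good_isSimpleGroup hG
  have hidxP := idx_congr e hidx'
  have hna : ¬ IsMulCommutative (P (OrthForms.oddForm 3 F)) :=
    not_comm_of hp13 (by rwa [← Nat.card_congr e.toEquiv]) (by norm_num) hidxP
  have hcen : Subgroup.center (P (OrthForms.oddForm 3 F)) = ⊥ := center_eq_bot hna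
  have hout : Nat.card (Cfsg.Out (Cfsg.POmega F ⇑(OrthForms.oddForm 3 F))) = 2 * 1 := by
    rw [OrthForms.coe_oddForm]
    refine H163.PG.card_out_oodd (p := 5) (f := 1) Nat.prime_five le_rfl (by rw [hF, pow_one]) (by rw [hF]; decide) le_rfl ?_
    rw [← OrthForms.coe_oddForm]
    exact center_eq_bot_of e.symm hcen
  refine AS2.congr e.symm (as2_P hG hF ?_ hE13 ?_ ?_ hcE hidxP hna)
  · rw [Module.finrank_fintype_fun_eq_card]
    rfl
  · rwa [← Nat.card_congr e.toEquiv]
  · rw [← card_out_dvd_congr e, hout]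
    norm_num

end Cfsg.Agent.H490.AS
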